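import Groth.Agent.ConsEmbedLib.Main
import Groth.Agent.ConsEffaceLib.Main
import Mathlib.GroupTheory.FiniteAbelian.Basic
import Mathlib.Data.Nat.ChineseRemainder

/-!
# Constructible sheaves killed by a class of integers
-/

set_option autoImplicit false
set_option linter.all false
set_option backward.isDefEq.respectTransparency false
set_option backward.isDefEq.respectTransparency.types false
set_option synthInstance.maxHeartbeats 400000
set_option maxHeartbeats 1000000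

universe u

open CategoryTheory CategoryTheory.Limits AlgebraicGeometry Opposite
open Groth.Agent Groth.Agent.EtShLib

noncomputable section

namespace CovDevLib

/-- A class of moduli: a multiplicative set of positive integers with complementary parts. -/
structure Moduli (ok : ℕ → Prop) : Prop where
  one : ok 1
  mul : ∀ a b, ok a → ok b → ok (a * b)
  pos : ∀ a, ok a → 0 < a
  split : ∀ N, 0 < N → ∃ a m, ok a ∧ N ∣ a * m ∧ ∀ d, ok d → d.Coprime m
  prime_pow : ∀ p e, p.Prime → ok (p ^ e) ∨ ∀ d, ok d → d.Coprime (p ^ e)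

theorem moduli_pow {ℓ : ℕ} (hℓ : ℓ.Prime) : Moduli (fun d => ∃ k : ℕ, ℓ ^ k = d) where
  one := ⟨0, pow_zero ℓ⟩
  mul := by rintro a b ⟨k, rfl⟩ ⟨l, rfl⟩; exact ⟨k + l, pow_add ℓ k l⟩
  pos := by rintro a ⟨k, rfl⟩; exact pow_pos hℓ.pos k
  split N hN := by
    obtain ⟨e, m, hm, rfl⟩ := Nat.exists_eq_pow_mul_and_not_dvd hN.ne' ℓ hℓ.ne_one
    exact ⟨ℓ ^ e, m, ⟨e, rfl⟩, dvd_rfl, by rintro d ⟨k, rfl⟩; exact (hℓ.coprime_iff_not_dvd.2 hm).pow_left k⟩
  prime_pow p e hp := by
    by_cases h : p = ℓ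
    · exact .inl ⟨e, by rw [h]⟩
    · exact .inr (by rintro d ⟨k, rfl⟩; exact Nat.Coprime.pow k e ((Nat.coprime_primes hℓ hp).2 (Ne.symm h)))

theorem moduli_pos : Moduli (fun d => 0 < d) where
  one := one_pos
  mul _ _ := Nat.mul_pos
  pos _ h := h
  split N hN := ⟨N, 1, hN, by rw [mul_one], fun d _ => Nat.coprime_one_right d⟩
  prime_pow p e hp := .inl (pow_pos hp.pos e)

theorem eq_zero_of_coprime {A : Type*} [AddCommGroup A] {g : A} {d m : ℕ} (hd : d • g = 0) (hm : m • g = 0)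
    (h : d.Coprime m) : g = 0 :=
  AddMonoid.addOrderOf_eq_one_iff.1 (Nat.eq_one_of_dvd_coprimes h (addOrderOf_dvd_of_nsmul_eq_zero hd)
    (addOrderOf_dvd_of_nsmul_eq_zero hm))

theorem nsmul_eq_self {A : Type*} [AddCommGroup A] {g : A} {d c : ℕ} (hd : d • g = 0) (hc : c ≡ 1 [MOD d]) :
    c • g = g := by
  have key : ∀ x : ℕ, x • g = (x % d) • g := fun x => by
    conv_lhs => rw [← Nat.mod_add_div x d, add_nsmul, mul_nsmul, hd, nsmul_zero, add_zero]
  have hc' : c % d = 1 % d := hc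
  rw [key c, hc', ← key 1, one_nsmul]

theorem nsmul_eq_zero_of_dvd {A : Type*} [AddCommGroup A] {g : A} {d c : ℕ} (hd : d • g = 0) (h : d ∣ c) :
    c • g = 0 := by
  obtain ⟨k, rfl⟩ := h
  rw [mul_nsmul, hd, nsmul_zero]

theorem ulift_down_sum {α : Type*} {κ : Type*} [AddCommMonoid α] (t : Finset κ) (h : κ → ULift α) :
    (∑ s ∈ t, h s).down = ∑ s ∈ t, (h s).down :=
  map_sum (AddEquiv.ulift (α := α)) h t

variable {X : Scheme.{u}}

theorem nsmul_hom_left {G F : EtCoh.Ab X} {d : ℕ} (h : d • 𝟙 G = 0) (g : G ⟶ F) : d • g = 0 := by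
  rw [← Category.id_comp g, ← Preadditive.nsmul_comp, h, zero_comp]

theorem nsmul_hom_right {G F : EtCoh.Ab X} {d : ℕ} (h : d • 𝟙 F = 0) (g : G ⟶ F) : d • g = 0 := by
  rw [← Category.comp_id g, ← Preadditive.comp_nsmul, h, comp_zero]

/-- The class of constructible sheaves killed by an integer in `ok`. -/
def Cls (ok : ℕ → Prop) (G : EtCoh.Ab X) : Prop :=
  IsCons (A := AddCommGrpCat.{u + 1}) FinP G ∧ ∃ a, ok a ∧ a • 𝟙 G = 0

/-- The part of a constructible sheaf killed by the given moduli is a direct summand. -/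
theorem exists_part [CompactSpace X] [QuasiSeparatedSpace X] {ok : ℕ → Prop} (hok : Moduli ok)
    {G : EtCoh.Ab X} (hG : IsCons (A := AddCommGrpCat.{u + 1}) FinP G) {d : ℕ} (hd : ok d) :
    ∃ (K : EtCoh.Ab X) (ι : K ⟶ G) (r : G ⟶ K), ι ≫ r = 𝟙 K ∧ Cls ok K ∧
      (∀ (T : EtCoh.Ab X) (g : T ⟶ G), d • g = 0 → (g ≫ r) ≫ ι = g) ∧
      (∀ (T : EtCoh.Ab X) (g : G ⟶ T) (e : ℕ), ok e → e • g = 0 → r ≫ ι ≫ g = g) := by
  obtain ⟨N, hN, hNG⟩ := ConsEffaceLib.exists_nsmul_eq_zero hG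
  obtain ⟨a, m, ha, hdvd, hcop⟩ := hok.split N hN
  have hb : ok (a * d) := hok.mul a d ha hd
  obtain ⟨c, hc1, hc2⟩ := Nat.chineseRemainder (hcop _ hb) 1 0
  let r : G ⟶ kernel ((a * d) • 𝟙 G) := kernel.lift _ (c • 𝟙 G) (by
    rw [Preadditive.nsmul_comp, Category.id_comp, smul_smul]
    exact nsmul_eq_zero_of_dvd hNG (hdvd.trans ((Nat.mul_dvd_mul (dvd_mul_right a d) (Nat.modEq_zero_iff_dvd.1 hc2)).trans
      (by rw [mul_comm]))))
  let ι := kernel.ι ((a * d) • 𝟙 G)
  have hι : (a * d) • ι = 0 := by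
    have := kernel.condition ((a * d) • 𝟙 G)
    rwa [Preadditive.comp_nsmul, Category.comp_id] at this
  have hr : r ≫ ι = c • 𝟙 G := kernel.lift_ι _ _ _
  refine ⟨_, ι, r, ?_, ⟨cons_kernel _ hG hG, a * d, hb, ?_⟩, fun T g hg => ?_, fun T g e he hg => ?_⟩
  · rw [← cancel_mono ι, Category.assoc, hr, Preadditive.comp_nsmul, Category.comp_id, Category.id_comp]
    exact nsmul_eq_self hι hc1
  · rw [← cancel_mono ι, zero_comp, Preadditive.nsmul_comp, Category.id_comp]
    exact hι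
  · rw [Category.assoc, hr, Preadditive.comp_nsmul, Category.comp_id]
    exact nsmul_eq_self (nsmul_eq_zero_of_dvd hg (dvd_mul_left d a)) hc1
  · rw [← Category.assoc, hr, Preadditive.nsmul_comp, Category.id_comp]
    refine nsmul_eq_self (addOrderOf_dvd_iff_nsmul_eq_zero.1 ?_) hc1
    have h1 : addOrderOf g ∣ e := addOrderOf_dvd_of_nsmul_eq_zero hg
    have h2 : addOrderOf g ∣ a * m :=
      (addOrderOf_dvd_of_nsmul_eq_zero (nsmul_hom_left hNG g)).trans hdvd
    exact ((Nat.Coprime.coprime_dvd_left h1 (hcop e he)).dvd_of_dvd_mul_right h2).trans (dvd_mul_right a d)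

/-- Sheaves of the class embed in sums of direct images of `ℤ/q` along finite morphisms. -/
theorem exists_embed_cyclic [CompactSpace X] [QuasiSeparatedSpace X] {ok : ℕ → Prop} (hok : Moduli ok)
    {F : EtCoh.Ab X} (hF : Cls ok F) :
    ∃ (n : ℕ) (Y : Fin n → Scheme.{u}) (f : ∀ i, Y i ⟶ X) (_ : ∀ i, IsFinite (f i))
      (_ : ∀ i, LocallyOfFinitePresentation (f i)) (q : Fin n → ℕ) (_ : ∀ i, ok (q i))
      (_ : ∀ i, ∃ p e : ℕ, p.Prime ∧ q i = p ^ e)
      (ι : F ⟶ ⨁ fun i => (EtCoh.push (f i)).obj (EtCoh.const (Y i) (ZMod (q i)))), Mono ι := by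
  classical
  obtain ⟨hFc, d, hd, hdF⟩ := hF
  obtain ⟨n, Y, f, hfin, hfp, M, iM, fM, φ, hφ⟩ := ConsEmbedLib.exists_embed ((isConstructible_iff _).2 hFc)
  choose κ fκ p hp e hM using fun j => AddCommGroup.equiv_directSum_zmod_of_finite (M j)
  let Z : (Σ j, κ j) → EtCoh.Ab X := fun s =>
    (EtCoh.push (f s.1)).obj (EtCoh.const (Y s.1) (ZMod (p s.1 s.2 ^ e s.1 s.2)))
  let P : Fin n → EtCoh.Ab X := fun j => (EtCoh.push (f j)).obj (EtCoh.const (Y j) (M j))
  let T : ∀ j, AddCommGrpCat.{u + 1} ⥤ EtCoh.Ab X := fun j =>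
    constantSheaf (Y j).smallEtaleTopology AddCommGrpCat.{u + 1} ⋙ EtCoh.push (f j)
  haveI : ∀ j, (T j).Additive := fun j => by
    haveI : PreservesFiniteLimits (constantSheaf (Y j).smallEtaleTopology AddCommGrpCat.{u + 1}) := by
      dsimp only [constantSheaf]
      infer_instance
    haveI : (constantSheaf (Y j).smallEtaleTopology AddCommGrpCat.{u + 1}).Additive :=
      Functor.additive_of_preserves_binary_products _
    haveI : (EtCoh.push (f j)).Additive := { }
    dsimp only [T]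
    infer_instance
  let eM : ∀ j, M j ≃+ DirectSum (κ j) (fun s => ZMod (p j s ^ e j s)) := fun j => (hM j).some
  let pr : ∀ (j : Fin n) (s : κ j), AddCommGrpCat.of (ULift.{u + 1} (M j)) ⟶
      AddCommGrpCat.of (ULift.{u + 1} (ZMod (p j s ^ e j s))) := fun j s =>
    AddCommGrpCat.ofHom (AddMonoidHom.mk' (fun x => ULift.up ((eM j x.down) s)) fun x y => by
      show ULift.up ((eM j (x.down + y.down)) s) = _
      rw [map_add]; rfl)
  let g : ∀ s : (Σ j, κ j), F ⟶ Z s := fun s => φ ≫ biproduct.π P s.1 ≫ (T s.1).map (pr s.1 s.2)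
  have hg : ∀ {W : EtCoh.Ab X} (k : W ⟶ F), (∀ s, k ≫ g s = 0) → k = 0 := by
    intro W k hk
    rw [← cancel_mono φ, zero_comp]
    refine biproduct.hom_ext _ _ fun j => ?_
    rw [zero_comp, Category.assoc]
    haveI := fκ j
    let inj : ∀ s : κ j, AddCommGrpCat.of (ULift.{u + 1} (ZMod (p j s ^ e j s))) ⟶
        AddCommGrpCat.of (ULift.{u + 1} (M j)) := fun s =>
      AddCommGrpCat.ofHom (AddMonoidHom.mk'
        (fun x => ULift.up ((eM j).symm (DirectSum.of (fun s => ZMod (p j s ^ e j s)) s x.down))) fun x y => by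
          show ULift.up ((eM j).symm (DirectSum.of (fun s => ZMod (p j s ^ e j s)) s (x.down + y.down))) = _
          rw [map_add, map_add]; rfl)
    have hid : 𝟙 (AddCommGrpCat.of (ULift.{u + 1} (M j))) = ∑ s, pr j s ≫ inj s := by
      refine AddCommGrpCat.ext fun x => ?_
      show x = AddCommGrpCat.homAddEquiv (∑ s, pr j s ≫ inj s) x
      rw [map_sum, AddMonoidHom.finsetSum_apply]
      refine ULift.ext _ _ ?_
      rw [ulift_down_sum]
      show x.down = ∑ s, (eM j).symm (DirectSum.of _ s ((eM j x.down) s))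
      rw [← map_sum, DirectSum.sum_univ_of, AddEquiv.symm_apply_apply]
    rw [← Category.comp_id (biproduct.π P j), show (𝟙 (P j)) = (T j).map (𝟙 (AddCommGrpCat.of (ULift.{u + 1} (M j))))
      from ((T j).map_id _).symm, hid, Functor.map_sum, Preadditive.comp_sum, Preadditive.comp_sum,
      Preadditive.comp_sum]
    refine Finset.sum_eq_zero fun s _ => ?_
    rw [Functor.map_comp]
    have h1 := hk ⟨j, s⟩
    simp only [g, ← Category.assoc] at h1 ⊢
    rw [h1, zero_comp]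
  haveI : ∀ j, Fintype (κ j) := fκ
  let S := {s : Σ j, κ j // ok (p s.1 s.2 ^ e s.1 s.2)}
  let Q := Fintype.equivFin S
  let Φ : F ⟶ ⨁ fun i => Z (Q.symm i).1 := biproduct.lift fun i => g (Q.symm i).1
  refine ⟨_, fun i => Y (Q.symm i).1.1, fun i => f _, fun i => hfin _, fun i => hfp _,
    fun i => p (Q.symm i).1.1 (Q.symm i).1.2 ^ e (Q.symm i).1.1 (Q.symm i).1.2, fun i => (Q.symm i).2, fun i => ⟨_, _, hp _ _, rfl⟩, Φ, ?_⟩
  refine Preadditive.mono_of_cancel_zero _ fun k hk => hg k fun s => ?_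
  rcases hok.prime_pow (p s.1 s.2) (e s.1 s.2) (hp s.1 s.2) with h | h
  · obtain ⟨i, hi⟩ : ∃ i, Q.symm i = (⟨s, h⟩ : S) := Q.symm.surjective _
    have h1 := congrArg (· ≫ biproduct.π (fun i => Z (Q.symm i).1) i) hk
    simp only [Category.assoc, zero_comp, Φ, biproduct.lift_π] at h1
    rw [hi] at h1
    exact h1
  · have hz : (p s.1 s.2 ^ e s.1 s.2) • 𝟙 (Z s) = 0 := by
      let C := AddCommGrpCat.of (ULift.{u + 1} (ZMod (p s.1 s.2 ^ e s.1 s.2)))
      have hC : (p s.1 s.2 ^ e s.1 s.2) • 𝟙 C = 0 := by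
        refine AddCommGrpCat.ext fun x => ?_
        show AddCommGrpCat.homAddEquiv ((p s.1 s.2 ^ e s.1 s.2) • 𝟙 C) x = AddCommGrpCat.homAddEquiv (0 : C ⟶ C) x
        rw [map_nsmul, AddMonoidHom.nsmul_apply, map_zero, AddMonoidHom.zero_apply]
        refine ULift.ext _ _ ?_
        show (p s.1 s.2 ^ e s.1 s.2) • x.down = 0
        rw [nsmul_eq_mul, ZMod.natCast_self, zero_mul]
      rw [show 𝟙 (Z s) = (T s.1).map (𝟙 C) from ((T s.1).map_id _).symm, ← Functor.map_nsmul, hC, Functor.map_zero]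
    exact eq_zero_of_coprime (nsmul_hom_right hz _)
      (by rw [← Preadditive.comp_nsmul, nsmul_hom_left hdF, comp_zero]) (h d hd).symm

end CovDevLib
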