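import Groth.Agent.CovDevLib.Base
import Groth.Agent.CovDevLib.Part
import Groth.Agent.S0137

/-!
# Dévissage from constant sheaves on finite covers to torsion sheaves
-/

set_option autoImplicit false
set_option linter.all false
set_option backward.isDefEq.respectTransparency false
set_option backward.isDefEq.respectTransparency.types false
set_option synthInstance.maxHeartbeats 400000
set_option maxHeartbeats 1000000

universe u

open CategoryTheory CategoryTheory.Limits CategoryTheory.Abelian AlgebraicGeometry Opposite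
open Groth.Agent Groth.Agent.EtShLib Groth.Agent.EtCompLib DescSecLib EtSliceLib EtAcycLib

noncomputable section

namespace CovDevLib

section Colimit

universe v₁ v₂ w₁ u₁ u₂

variable {J : Type w₁} [SmallCategory J] [IsFiltered J] {C : Type u₁} [Category.{v₁} C] {D : Type u₂} [Category.{v₂} D]
  (P : C ⥤ D) (E : D ⥤ AddCommGrpCat.{w₁}) {K : J ⥤ C} {c : Cocone K} (hc : IsColimit c)
  [PreservesColimitsOfShape J P] [PreservesColimitsOfShape J E]

include hc in
theorem exists_rep_of_colimit (y : E.obj (P.obj c.pt)) :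
    ∃ (p : J) (z : E.obj (P.obj (K.obj p))), E.map (P.map (c.ι.app p)) z = y :=
  Concrete.isColimit_exists_rep (K ⋙ P ⋙ E) (isColimitOfPreserves E (isColimitOfPreserves P hc)) y

include hc in
theorem exists_stage_eq_zero {p : J} (z : E.obj (P.obj (K.obj p))) (hz : E.map (P.map (c.ι.app p)) z = 0) :
    ∃ (r : J) (a : p ⟶ r), E.map (P.map (K.map a)) z = 0 := by
  obtain ⟨r, a, b, hab⟩ := (Concrete.isColimit_rep_eq_iff_exists (F := K ⋙ P ⋙ E)
    (isColimitOfPreserves E (isColimitOfPreserves P hc)) z (0 : E.obj (P.obj (K.obj p)))).1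
      (hz.trans (map_zero _).symm)
  exact ⟨r, a, hab.trans (map_zero ((K ⋙ P ⋙ E).map b).hom)⟩

end Colimit

variable {X Y : Scheme.{u}} (h : Y ⟶ X)

/-- The hypothesis on constant sheaves on finite covers. -/
def CovHyp (ok : ℕ → Prop) (n : ℕ) : Prop :=
  ∀ (X' : Scheme.{u}) (p : X' ⟶ X), IsFinite p → ∀ q, ok q → (∃ r e : ℕ, r.Prime ∧ q = r ^ e) →
    Function.Injective (EtCore.Hpull (pullback.fst p h) (EtCoh.const X' (ZMod q)) 0) ∧
      ∀ i ≤ n, Function.Surjective (EtCore.Hpull (pullback.fst p h) (EtCoh.const X' (ZMod q)) i)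

/-- Injectivity on the class. -/
def InjC (ok : ℕ → Prop) (i : ℕ) : Prop :=
  ∀ G : EtCoh.Ab X, Cls ok G → Function.Injective (EtCore.Hpull h G i)

/-- Surjectivity on the class. -/
def SurC (ok : ℕ → Prop) (i : ℕ) : Prop :=
  ∀ G : EtCoh.Ab X, Cls ok G → Function.Surjective (EtCore.Hpull h G i)

variable {h} {ok : ℕ → Prop} {n : ℕ}

theorem eq_zero_of_mono_H0 {S : Scheme.{u}} {A B : EtCoh.Ab S} (u : A ⟶ B) [Mono u] (x : EtCoh.H S A 0)
    (hx : x.comp (Ext.mk₀ u) (add_zero 0) = 0) : x = 0 := by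
  obtain ⟨a, rfl⟩ := (Ext.mk₀_bijective _ _).2 x
  rw [Ext.mk₀_comp_mk₀, ← Ext.mk₀_zero] at hx
  rw [← Ext.mk₀_zero]
  exact congrArg Ext.mk₀ ((cancel_mono u).1 (((Ext.mk₀_bijective _ _).1 hx).trans zero_comp.symm))

theorem surjective_biproduct {k : ℕ} (T : Fin k → EtCoh.Ab X) (i : ℕ)
    (H : ∀ j, Function.Surjective (EtCore.Hpull h (T j) i)) :
    Function.Surjective (EtCore.Hpull h (⨁ T) i) := fun y => by
  haveI : (EtCoh.pull h).Additive := { }
  choose x hx using fun j => H j (y.comp (Ext.mk₀ ((EtCoh.pull h).map (biproduct.π T j))) (add_zero i))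
  refine ⟨∑ j, (x j).comp (Ext.mk₀ (biproduct.ι T j)) (add_zero i), ?_⟩
  rw [map_sum]
  simp only [Hpull_postcomp, hx, Ext.comp_assoc_of_second_deg_zero, Ext.mk₀_comp_mk₀]
  simp only [← Functor.map_comp]
  rw [← Ext.comp_sum, ← Ext.mk₀_sum, ← Functor.map_sum, biproduct.total, CategoryTheory.Functor.map_id,
    Ext.comp_mk₀_id]

theorem injective_biproduct {k : ℕ} (T : Fin k → EtCoh.Ab X) (i : ℕ)
    (H : ∀ j, Function.Injective (EtCore.Hpull h (T j) i)) :
    Function.Injective (EtCore.Hpull h (⨁ T) i) := by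
  refine (injective_iff_map_eq_zero _).2 fun x hx => ?_
  have hz : ∀ j, x.comp (Ext.mk₀ (biproduct.π T j)) (add_zero i) = 0 := fun j => H j (by
    rw [Hpull_postcomp, hx, Ext.zero_comp, map_zero])
  rw [← Ext.comp_mk₀_id x, ← biproduct.total, Ext.mk₀_sum, Ext.comp_sum]
  refine Finset.sum_eq_zero fun j _ => ?_
  rw [← Ext.mk₀_comp_mk₀, ← Ext.comp_assoc_of_second_deg_zero, hz, Ext.zero_comp]

variable [CompactSpace X] [QuasiSeparatedSpace X]

theorem cls_push_const (hok : Moduli ok) {Z : Scheme.{u}} (f : Z ⟶ X) [IsFinite f] [LocallyOfFinitePresentation f]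
    {q : ℕ} (hq : ok q) : Cls ok ((EtCoh.push f).obj (EtCoh.const Z (ZMod q))) := by
  haveI : CompactSpace Z := QuasiCompact.compactSpace_of_compactSpace f
  haveI : QuasiSeparatedSpace Z := quasiSeparatedSpace_of_quasiSeparated f
  haveI : NeZero q := ⟨(hok.pos q hq).ne'⟩
  let C := AddCommGrpCat.of (ULift.{u + 1} (ZMod q))
  haveI : Finite C := inferInstanceAs (Finite (ULift.{u + 1} (ZMod q)))
  refine ⟨(isConstructible_iff _).1 (Groth.Agent.S0137.result f _ ((isConstructible_iff _).2 (isCons_const _))), q, hq, ?_⟩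
  haveI : PreservesFiniteLimits (constantSheaf Z.smallEtaleTopology AddCommGrpCat.{u + 1}) := by
    dsimp only [constantSheaf]
    infer_instance
  haveI : (constantSheaf Z.smallEtaleTopology AddCommGrpCat.{u + 1}).Additive :=
    Functor.additive_of_preserves_binary_products _
  haveI : (EtCoh.push f).Additive := { }
  have hC : q • 𝟙 C = 0 := by
    refine AddCommGrpCat.ext fun x => ?_
    show AddCommGrpCat.homAddEquiv (q • 𝟙 C) x = AddCommGrpCat.homAddEquiv (0 : C ⟶ C) x
    rw [map_nsmul, AddMonoidHom.nsmul_apply, map_zero, AddMonoidHom.zero_apply]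
    refine ULift.ext _ _ ?_
    show q • x.down = 0
    rw [nsmul_eq_mul, ZMod.natCast_self, zero_mul]
  rw [show 𝟙 ((EtCoh.push f).obj (EtCoh.const Z (ZMod q))) =
      (EtCoh.push f).map ((constantSheaf Z.smallEtaleTopology AddCommGrpCat.{u + 1}).map (𝟙 C)) from
    (((constantSheaf Z.smallEtaleTopology AddCommGrpCat.{u + 1}) ⋙ EtCoh.push f).map_id C).symm,
    ← Functor.map_nsmul, ← Functor.map_nsmul, hC, Functor.map_zero, Functor.map_zero]

theorem cls_cokernel {A B : EtCoh.Ab X} (u : A ⟶ B) (hA : Cls ok A) (hB : Cls ok B) : Cls ok (cokernel u) := by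
  obtain ⟨hBc, b, hb, hbB⟩ := hB
  refine ⟨cons_cokernel u hA.1 hBc, b, hb, ?_⟩
  rw [← cancel_epi (cokernel.π u), comp_zero, Preadditive.comp_nsmul, Category.comp_id]
  exact nsmul_hom_left hbB _

theorem cls_biproduct (hok : Moduli ok) {k : ℕ} (T : Fin k → EtCoh.Ab X) (hT : ∀ j, Cls ok (T j)) :
    Cls ok (⨁ T) := by
  choose hc a ha hk using hT
  refine ⟨isCons_biproduct T hc, ∏ j, a j,
    Finset.prod_induction _ ok hok.mul hok.one fun j _ => ha j, ?_⟩
  refine biproduct.hom_ext _ _ fun j => ?_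
  rw [zero_comp, Preadditive.nsmul_comp, Category.id_comp]
  exact nsmul_eq_zero_of_dvd (nsmul_hom_right (hk j) _) (Finset.dvd_prod_of_mem a (Finset.mem_univ j))

variable (hok : Moduli ok) (H : CovHyp h ok n)

include hok H in
theorem exists_embed_good {F : EtCoh.Ab X} (hF : Cls ok F) :
    ∃ (E : EtCoh.Ab X) (u : F ⟶ E), Mono u ∧ Cls ok E ∧ Function.Injective (EtCore.Hpull h E 0) ∧
      ∀ i ≤ n, Function.Surjective (EtCore.Hpull h E i) := by
  obtain ⟨k, Z, f, hfin, hfp, q, hq, hpp, ι, hι⟩ := exists_embed_cyclic hok hF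
  haveI := hfin; haveI := hfp
  refine ⟨_, ι, hι, cls_biproduct hok _ fun j => cls_push_const hok (f j) (hq j),
    injective_biproduct _ 0 fun j =>
      injective_Hpull_push (IsPullback.of_hasPullback (f j) h) _ 0 (H (Z j) (f j) (hfin j) (q j) (hq j) (hpp j)).1,
    fun i hi => surjective_biproduct _ i fun j =>
      surjective_Hpull_push (IsPullback.of_hasPullback (f j) h) _ i ((H (Z j) (f j) (hfin j) (q j) (hq j) (hpp j)).2 i hi)⟩

include hok H in
theorem injC_zero : InjC h ok 0 := fun F hF => by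
  refine (injective_iff_map_eq_zero _).2 fun x hx => ?_
  obtain ⟨E, u, hu, -, hinj, -⟩ := exists_embed_good hok H hF
  haveI := hu
  refine eq_zero_of_mono_H0 u x (hinj ?_)
  rw [Hpull_postcomp, hx, Ext.zero_comp, map_zero]

include hok H in
theorem surC_of_injC {i : ℕ} (hi : i ≤ n) (hI : InjC h ok i) (hprev : ∀ j, j + 1 = i → SurC h ok j) :
    SurC h ok i := fun F hF y => by
  obtain ⟨E, u, hu, hE, -, hsur⟩ := exists_embed_good hok H hF
  haveI := hu
  haveI : (EtCoh.pull h).IsLeftAdjoint := (EtCoh.pullPushAdj h).isLeftAdjoint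
  let S := ShortComplex.mk u (cokernel.π u) (cokernel.condition u)
  have hS : S.ShortExact := { exact := ShortComplex.exact_of_g_is_cokernel _ (cokernelIsCokernel _) }
  obtain ⟨g, hg⟩ := hsur i hi (y.comp (Ext.mk₀ ((EtCoh.pull h).map u)) (add_zero i))
  have hgq : g.comp (Ext.mk₀ (cokernel.π u)) (add_zero i) = 0 := hI _ (cls_cokernel u hF hE) (by
    rw [Hpull_postcomp, hg, Ext.comp_assoc_of_second_deg_zero, Ext.mk₀_comp_mk₀, ← Functor.map_comp,
      cokernel.condition, Functor.map_zero, Ext.mk₀_zero, Ext.comp_zero, map_zero])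
  obtain ⟨f, hf⟩ := Ext.covariant_sequence_exact₂ _ hS g hgq
  have hd : (y - EtCore.Hpull h F i f).comp (Ext.mk₀ ((EtCoh.pull h).map u)) (add_zero i) = 0 := by
    refine ((Ext.mk₀ ((EtCoh.pull h).map u)).postcomp (EtCoh.const Y ℤ) (add_zero i)).map_sub _ _ |>.trans ?_
    show y.comp (Ext.mk₀ ((EtCoh.pull h).map u)) (add_zero i) -
      (EtCore.Hpull h F i f).comp (Ext.mk₀ ((EtCoh.pull h).map u)) (add_zero i) = 0
    rw [← Hpull_postcomp, sub_eq_zero]
    exact hg.symm.trans (congrArg _ hf.symm)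
  rcases i with _ | j
  · haveI : Mono ((EtCoh.pull h).map u) := inferInstance
    exact ⟨f, (sub_eq_zero.1 (eq_zero_of_mono_H0 _ _ hd)).symm⟩
  · obtain ⟨c', hc'⟩ := Ext.covariant_sequence_exact₁ _ (hS.map_of_exact (EtCoh.pull h)) (n₀ := j)
      (y - EtCore.Hpull h F (j + 1) f) hd rfl
    obtain ⟨c, rfl⟩ := hprev j rfl _ (cls_cokernel u hF hE) c'
    refine ⟨f + c.comp hS.extClass rfl, ?_⟩
    have hδ := (Hpull_delta h hS c).trans hc'
    exact (map_add _ _ _).trans ((congrArg (_ + ·) hδ).trans (add_sub_cancel _ _))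

include hok in
theorem injC_succ {i : ℕ} (hI : InjC h ok i) (hS' : SurC h ok i) : InjC h ok (i + 1) := fun F hF => by
  refine (injective_iff_map_eq_zero _).2 fun x hx => ?_
  obtain ⟨hFc, d, hd, hdF⟩ := hF
  obtain ⟨G, u, hG, hu, hxu⟩ := ConsEffaceLib.exists_efface hFc i x
  haveI := hu
  obtain ⟨K, ι, r, -, hK, hin, -⟩ := exists_part hok hG hd
  have hfac := hin F u (nsmul_hom_left hdF u)
  haveI : Mono (u ≫ r) := mono_of_mono_fac hfac
  haveI : (EtCoh.pull h).IsLeftAdjoint := (EtCoh.pullPushAdj h).isLeftAdjoint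
  have hxr : x.comp (Ext.mk₀ (u ≫ r)) (add_zero (i + 1)) = 0 := by
    rw [← Ext.mk₀_comp_mk₀, ← Ext.comp_assoc_of_second_deg_zero, hxu, Ext.zero_comp]
  let S := ShortComplex.mk (u ≫ r) (cokernel.π (u ≫ r)) (cokernel.condition _)
  have hS : S.ShortExact := { exact := ShortComplex.exact_of_g_is_cokernel _ (cokernelIsCokernel _) }
  obtain ⟨c, rfl⟩ := Ext.covariant_sequence_exact₁ _ hS x hxr (n₀ := i) rfl
  obtain ⟨g', hg'⟩ := Ext.covariant_sequence_exact₃ _ (hS.map_of_exact (EtCoh.pull h))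
    (EtCore.Hpull h S.X₃ i c) rfl ((Hpull_delta h hS c).symm.trans hx)
  obtain ⟨g, rfl⟩ := hS' K hK g'
  have hc : g.comp (Ext.mk₀ S.g) (add_zero i) = c :=
    hI _ (cls_cokernel (u ≫ r) ⟨hFc, d, hd, hdF⟩ hK) ((Hpull_postcomp h S.g i g).trans hg')
  rw [← hc, Ext.comp_assoc_of_second_deg_zero, ShortComplex.ShortExact.comp_extClass, Ext.comp_zero]

include hok H in
theorem cls_range : ∀ i, (i ≤ n + 1 → InjC h ok i) ∧ (i ≤ n → SurC h ok i)
  | 0 => ⟨fun _ => injC_zero hok H, fun hi => surC_of_injC hok H hi (injC_zero hok H) (fun j hj => absurd hj (by omega))⟩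
  | i + 1 => by
    have ih := cls_range i
    have hI : i + 1 ≤ n + 1 → InjC h ok (i + 1) := fun hi =>
      injC_succ hok (ih.1 (by omega)) (ih.2 (by omega))
    exact ⟨hI, fun hi => surC_of_injC hok H hi (hI (by omega)) fun j hj => by
      obtain rfl : j = i := by omega
      exact ih.2 (by omega)⟩

variable [CompactSpace Y] [QuasiSeparatedSpace Y]

theorem preservesColimits_H {S : Scheme.{u}} [CompactSpace S] [QuasiSeparatedSpace S] (i : ℕ)
    (J : Type (u + 1)) [SmallCategory J] [IsFiltered J] :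
    PreservesColimitsOfShape J (Abelian.extFunctorObj.{u + 1} (EtCoh.const S ℤ) i) := by
  obtain ⟨e⟩ := nonempty_free_top_iso S
  haveI : PreservesColimitsOfShape J ((Abelian.extFunctor.{u + 1} i).obj (op (EtCompLib.free (EtCoh.top S)))) :=
    preservesFiltered_ext_free (U := EtCoh.top S) ⟨‹CompactSpace S›, ‹QuasiSeparatedSpace S›⟩ i J
  exact preservesColimitsOfShape_of_natIso ((Abelian.extFunctor.{u + 1} i).mapIso e.op).symm

include hok H in
theorem range_torsion (F : EtCoh.Ab X) (hT : TorsionBy (fun m => 0 < m) F)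
    (hmono : ∀ m : ℕ, (∀ d, ok d → d.Coprime m) → Mono (m • 𝟙 F)) :
    (∀ i ≤ n, Function.Bijective (EtCore.Hpull h F i)) ∧ Function.Injective (EtCore.Hpull h F (n + 1)) := by
  haveI : (EtCoh.pull h).IsLeftAdjoint := (EtCoh.pullPushAdj h).isLeftAdjoint
  haveI : (EtCoh.pull h).Additive := { }
  haveI := isFiltered_consOver F
  obtain ⟨hc⟩ := nonempty_isColimit_consCocone F hT
  have hkill : ∀ {G : EtCoh.Ab X}, IsCons (A := AddCommGrpCat.{u + 1}) FinP G → ∀ g : G ⟶ F,
      ∃ e, ok e ∧ e • g = 0 := by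
    intro G hG g
    obtain ⟨N, hN, hNG⟩ := ConsEffaceLib.exists_nsmul_eq_zero hG
    obtain ⟨a, m, ha, hdvd, hcop⟩ := hok.split N hN
    haveI := hmono m hcop
    refine ⟨a, ha, (cancel_mono (m • 𝟙 F)).1 ?_⟩
    rw [zero_comp, Preadditive.comp_nsmul, Category.comp_id, smul_smul, mul_comm m a]
    exact nsmul_eq_zero_of_dvd (nsmul_hom_left hNG g) hdvd
  have hfac : ∀ {G : EtCoh.Ab X}, IsCons (A := AddCommGrpCat.{u + 1}) FinP G → ∀ g : G ⟶ F,
      ∃ (K : EtCoh.Ab X) (r : G ⟶ K) (g' : K ⟶ F), Cls ok K ∧ r ≫ g' = g := by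
    intro G hG g
    obtain ⟨K, ι, r, -, hK, -, hout⟩ := exists_part hok hG hok.one
    obtain ⟨e, he, heg⟩ := hkill hG g
    exact ⟨K, r, ι ≫ g, hK, hout F g e he heg⟩
  have inj : ∀ i ≤ n + 1, Function.Injective (EtCore.Hpull h F i) := by
    intro i hi
    refine (injective_iff_map_eq_zero _).2 fun x hx => ?_
    haveI := preservesColimits_H (S := X) i (ConsOver F)
    haveI := preservesColimits_H (S := Y) i (ConsOver F)
    let EX := Abelian.extFunctorObj.{u + 1} (EtCoh.const X ℤ) i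
    let EY := Abelian.extFunctorObj.{u + 1} (EtCoh.const Y ℤ) i
    obtain ⟨p, xp, hxp⟩ := Concrete.isColimit_exists_rep _ (isColimitOfPreserves EX hc) x
    have hxp' : xp.comp (Ext.mk₀ ((consCocone F).ι.app p)) (add_zero i) = x := hxp
    obtain ⟨r, a, hab⟩ := exists_stage_eq_zero (EtCoh.pull h) EY hc (EtCore.Hpull h _ i xp) (by
      show (EtCore.Hpull h _ i xp).comp (Ext.mk₀ _) (add_zero i) = 0
      rw [← Hpull_postcomp, hxp']
      exact hx)
    obtain ⟨K, t, g', hK, hg'⟩ := hfac (PresOver.isCons (F := F) r) ((consCocone F).ι.app r)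
    have hz : EtCore.Hpull h _ i (xp.comp (Ext.mk₀ ((consDiagram F).map a)) (add_zero i)) = 0 := by
      rw [Hpull_postcomp]
      exact hab
    have hz' : (xp.comp (Ext.mk₀ ((consDiagram F).map a ≫ t)) (add_zero i)) = 0 := (cls_range hok H i).1 hi K hK (by
      rw [← Ext.mk₀_comp_mk₀, ← Ext.comp_assoc_of_second_deg_zero, Hpull_postcomp, hz, Ext.zero_comp, map_zero])
    rw [← hxp', ← (consCocone F).w a, ← hg', ← Category.assoc, ← Ext.mk₀_comp_mk₀,
      ← Ext.comp_assoc_of_second_deg_zero, hz', Ext.zero_comp]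
  refine ⟨fun i hi => ⟨inj i (by omega), fun y => ?_⟩, inj (n + 1) le_rfl⟩
  haveI := preservesColimits_H (S := Y) i (ConsOver F)
  obtain ⟨p, yp, hyp⟩ := exists_rep_of_colimit (EtCoh.pull h) (Abelian.extFunctorObj.{u + 1} (EtCoh.const Y ℤ) i) hc y
  have hyp' : yp.comp (Ext.mk₀ ((EtCoh.pull h).map ((consCocone F).ι.app p))) (add_zero i) = y := hyp
  obtain ⟨K, t, g', hK, hg'⟩ := hfac (PresOver.isCons (F := F) p) ((consCocone F).ι.app p)
  obtain ⟨x, hx⟩ := (cls_range hok H i).2 hi K hK (yp.comp (Ext.mk₀ ((EtCoh.pull h).map t)) (add_zero i))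
  refine ⟨x.comp (Ext.mk₀ g') (add_zero i), ?_⟩
  rw [Hpull_postcomp, hx, Ext.comp_assoc_of_second_deg_zero, Ext.mk₀_comp_mk₀, ← Functor.map_comp, hg']
  exact hyp'

end CovDevLib
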