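import Groth.Agent.EtAcycLib.Range
import Groth.Agent.EtShLib.FiniteBC
import Groth.Agent.EtSliceLib.Hpull
import Groth.Agent.ConsEmbedLib.Colim

/-!
# Pullback on cohomology and direct images along finite morphisms

For a cartesian square with `p` finite, `H^n(X, p_* A) ≅ H^n(X', A)` transforms pullback along `h` into
pullback along the base change of `h`.
-/

set_option autoImplicit false
set_option linter.all false
set_option backward.isDefEq.respectTransparency false
set_option backward.isDefEq.respectTransparency.types false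
set_option synthInstance.maxHeartbeats 400000
set_option maxHeartbeats 1000000

universe u

open CategoryTheory CategoryTheory.Limits CategoryTheory.Abelian AlgebraicGeometry Opposite
open Groth.Agent Groth.Agent.EtShLib DescSecLib EtSliceLib EtAcycLib

noncomputable section

namespace CovDevLib

theorem Hpull_comp {A B C : Scheme.{u}} (f : A ⟶ B) (g : B ⟶ C) (h : A ⟶ C) (w : f ≫ g = h)
    [PreservesFiniteLimits (EtCoh.pull f)] [PreservesFiniteLimits (EtCoh.pull g)]
    [PreservesFiniteLimits (EtCoh.pull h)] (G : EtCoh.Ab C) (n : ℕ) (x : EtCoh.H C G n) :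
    (EtCore.Hpull f ((EtCoh.pull g).obj G) n (EtCore.Hpull g G n x)).comp
        (Ext.mk₀ ((etSys.c f g h w).app G)) (add_zero n) = EtCore.Hpull h G n x := by
  show ((Ext.mk₀ (EtCore.pullConst f ℤ).inv).comp
      (Ext.mapExactFunctor (EtCoh.pull f) ((Ext.mk₀ (EtCore.pullConst g ℤ).inv).comp
        (Ext.mapExactFunctor (EtCoh.pull g) x) (zero_add n))) (zero_add n)).comp _ _ =
    (Ext.mk₀ (EtCore.pullConst h ℤ).inv).comp (Ext.mapExactFunctor (EtCoh.pull h) x) (zero_add n)
  rw [pullConst_inv_eq_etZ, pullConst_inv_eq_etZ, pullConst_inv_eq_etZ, Ext.mapExactFunctor_comp,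
    Ext.mapExactFunctor_mk₀, ← mapExactFunctor_compFunctor]
  have key := ext_comp_aux _ _ _ _ (𝟙 _) _ _ (𝟙 _) _ _ (zero_add n)
    (mapExactFunctor_natTrans (etSys.c f g h w) x) (by rw [Category.id_comp, Category.comp_id])
    (etSys.z_comp f g h w)
  rw [Ext.comp_mk₀_id, Ext.comp_mk₀_id] at key
  exact key.symm

instance isIso_c {A B C : Scheme.{u}} (f : A ⟶ B) (g : B ⟶ C) (h : A ⟶ C) (w : f ≫ g = h) (G : EtCoh.Ab C) :
    IsIso ((etSys.c f g h w).app G) := by
  rw [← pullComp_inv_eq]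
  infer_instance

theorem homEquiv_c_comp {A B C : Scheme.{u}} (f : A ⟶ B) (g : B ⟶ C) (h : A ⟶ C) (w : f ≫ g = h)
    {G : EtCoh.Ab C} {M : EtCoh.Ab A} (ψ : (EtCoh.pull h).obj G ⟶ M) :
    (EtCoh.pullPushAdj g).homEquiv _ _ ((EtCoh.pullPushAdj f).homEquiv _ _ ((etSys.c f g h w).app G ≫ ψ)) =
      (EtCoh.pullPushAdj h).homEquiv _ _ ψ ≫ (etPc f g h w).app M := by
  rw [Adjunction.homEquiv_naturality_right, Adjunction.homEquiv_naturality_right]
  refine (congrArg (· ≫ _) (etSys.homEquiv_c f g h w G)).trans ?_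
  rw [Category.assoc]
  erw [← (etPc f g h w).naturality ψ]
  rw [← Category.assoc]
  exact congrArg (· ≫ _) ((EtCoh.pullPushAdj h).homEquiv_unit _ _ _).symm

section Square

variable {X Y X' Y' : Scheme.{u}} {h : Y ⟶ X} {p : X' ⟶ X} {p' : Y' ⟶ Y} {h' : Y' ⟶ X'}
  (hc : IsPullback h' p' p h) (A : EtCoh.Ab X')

theorem push_unit_eq (q : Y' ⟶ X) (w₁ : h' ≫ p = q) (w₂ : p' ≫ h = q) :
    bcAdj hc A ≫ inv ((etPc p' h q w₂).app ((EtCoh.pull h').obj A)) =
      (EtCoh.push p).map ((EtCoh.pullPushAdj h').unit.app A) ≫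
        inv ((etPc h' p q w₁).app ((EtCoh.pull h').obj A)) := by
  rw [IsIso.comp_inv_eq, Category.assoc]
  refine Sheaf.hom_ext (NatTrans.ext (funext fun W => ?_))
  obtain ⟨W⟩ := W
  let M := (EtCoh.pull h').obj A
  let i := inv ((etPc h' p q w₁).app M)
  haveI := ConsEmbedLib.isIso_bcCompHom h' p q w₁ W
  show ((EtCoh.pullPushAdj h').unit.app A).hom.app (op ((EtCoh.bc p).obj W)) ≫ M.obj.map (sqHom hc W).op =
    ((EtCoh.pullPushAdj h').unit.app A).hom.app (op ((EtCoh.bc p).obj W)) ≫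
      i.hom.app (op W) ≫ M.obj.map (bcCompHom p' h q w₂ W).op
  refine congrArg (_ ≫ ·) ?_
  have hi : M.obj.map (bcCompHom h' p q w₁ W).op ≫ i.hom.app (op W) = 𝟙 _ :=
    congrArg (fun t => t.hom.app (op W)) (IsIso.hom_inv_id ((etPc h' p q w₁).app M))
  haveI : IsIso (M.obj.map (bcCompHom h' p q w₁ W).op) := inferInstance
  rw [← cancel_epi (M.obj.map (bcCompHom h' p q w₁ W).op), reassoc_of% hi, ← Functor.map_comp, ← op_comp]
  refine congrArg (fun t => M.obj.map (Quiver.Hom.op t)) (bc_hom_ext q _ _ ?_)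
  show (sqLeft hc W ≫ (bcCompHom h' p q w₁ W).left) ≫ pullback.fst W.hom q = _
  rw [Category.assoc, bcCompHom_fst, bcCompHom_fst]
  exact (Category.assoc _ _ _).symm.trans (sq_fst_fst hc W)

theorem psi_eq (q : Y' ⟶ X) (w₁ : h' ≫ p = q) (w₂ : p' ≫ h = q) :
    inv ((etSys.c h' p q w₁).app ((EtCoh.push p).obj A)) ≫
        (EtCoh.pull h').map ((EtCoh.pullPushAdj p).counit.app A) =
      inv ((etSys.c p' h q w₂).app ((EtCoh.push p).obj A)) ≫
        (EtCoh.pull p').map (bcHom hc A) ≫ (EtCoh.pullPushAdj p').counit.app ((EtCoh.pull h').obj A) := by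
  apply ((EtCoh.pullPushAdj q).homEquiv _ _).injective
  have e1 := homEquiv_c_comp h' p q w₁ (inv ((etSys.c h' p q w₁).app ((EtCoh.push p).obj A)) ≫
    (EtCoh.pull h').map ((EtCoh.pullPushAdj p).counit.app A))
  rw [IsIso.hom_inv_id_assoc] at e1
  have e2 := homEquiv_c_comp p' h q w₂ (inv ((etSys.c p' h q w₂).app ((EtCoh.push p).obj A)) ≫
    (EtCoh.pull p').map (bcHom hc A) ≫ (EtCoh.pullPushAdj p').counit.app ((EtCoh.pull h').obj A))
  rw [IsIso.hom_inv_id_assoc] at e2
  have f1 : (EtCoh.pullPushAdj p).homEquiv _ _ ((EtCoh.pullPushAdj h').homEquiv _ _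
      ((EtCoh.pull h').map ((EtCoh.pullPushAdj p).counit.app A))) =
      (EtCoh.push p).map ((EtCoh.pullPushAdj h').unit.app A) := by
    rw [Adjunction.homEquiv_unit, Adjunction.homEquiv_unit]
    erw [← (EtCoh.pullPushAdj h').unit.naturality ((EtCoh.pullPushAdj p).counit.app A)]
    rw [Functor.map_comp]
    erw [(EtCoh.pullPushAdj p).right_triangle_components_assoc A]
    rfl
  have f2 : (EtCoh.pullPushAdj h).homEquiv _ _ ((EtCoh.pullPushAdj p').homEquiv _ _
      ((EtCoh.pull p').map (bcHom hc A) ≫ (EtCoh.pullPushAdj p').counit.app ((EtCoh.pull h').obj A))) =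
      bcAdj hc A := by
    refine (congrArg _ ((congrArg _ ((EtCoh.pullPushAdj p').homEquiv_counit _ _ _).symm).trans
      (Equiv.apply_symm_apply _ _))).trans ?_
    exact Equiv.apply_symm_apply _ _
  exact ((IsIso.comp_inv_eq _).2 (f1.symm.trans e1)).symm.trans
    ((push_unit_eq hc A q w₁ w₂).symm.trans ((IsIso.comp_inv_eq _).2 (f2.symm.trans e2)))

/-- `H^n(X, p_* A) → H^n(X', A)`. -/
def mu (n : ℕ) (x : EtCoh.H X ((EtCoh.push p).obj A) n) : EtCoh.H X' A n :=
  (EtCore.Hpull p ((EtCoh.push p).obj A) n x).comp (Ext.mk₀ ((EtCoh.pullPushAdj p).counit.app A)) (add_zero n)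

theorem bijective_mu [IsFinite p] (n : ℕ) : Function.Bijective (mu (p := p) A n) := by
  haveI : (EtCoh.push p).Additive := { }
  haveI : (EtCoh.pull p).Additive := { }
  haveI : (EtCoh.push p).IsRightAdjoint := (EtCoh.pullPushAdj p).isRightAdjoint
  haveI : (EtCoh.pull p).IsLeftAdjoint := (EtCoh.pullPushAdj p).isLeftAdjoint
  have hb := Groth.Agent.S14451.extAdj'_bijective (EtCoh.pullPushAdj p) (EtCoh.const X ℤ) n A
    (fun m => isZero_rightDerived_push_finite p A (m + 1) (by omega))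
  have e : mu (p := p) A n = (fun z => (Ext.mk₀ (EtCore.pullConst p ℤ).inv).comp z (zero_add n)) ∘
      Groth.Agent.S14451.extAdj' (EtCoh.pullPushAdj p) (EtCoh.const X ℤ) A n := funext fun x => by
    show ((Ext.mk₀ (EtCore.pullConst p ℤ).inv).comp (Ext.mapExactFunctor (EtCoh.pull p) x) (zero_add n)).comp
      (Ext.mk₀ _) (add_zero n) = _
    rw [Ext.comp_assoc_of_third_deg_zero]
    rfl
  rw [e]
  exact (bijective_mk₀_iso_precomp (EtCore.pullConst p ℤ).symm n).comp hb

theorem mu_natural (n : ℕ) (x : EtCoh.H X ((EtCoh.push p).obj A) n) :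
    EtCore.Hpull h' A n (mu (p := p) A n x) =
      mu ((EtCoh.pull h').obj A) n
        ((EtCore.Hpull h ((EtCoh.push p).obj A) n x).comp (Ext.mk₀ (bcHom hc A)) (add_zero n)) := by
  let q := h' ≫ p
  have c1 := Hpull_comp h' p q rfl ((EtCoh.push p).obj A) n x
  have c2 := Hpull_comp p' h q hc.w.symm ((EtCoh.push p).obj A) n x
  rw [mu, mu, Hpull_postcomp, Hpull_postcomp, Ext.comp_assoc_of_second_deg_zero, Ext.mk₀_comp_mk₀]
  rw [← IsIso.hom_inv_id_assoc ((etSys.c h' p q rfl).app ((EtCoh.push p).obj A))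
      ((EtCoh.pull h').map ((EtCoh.pullPushAdj p).counit.app A)),
    ← IsIso.hom_inv_id_assoc ((etSys.c p' h q hc.w.symm).app ((EtCoh.push p).obj A))
      ((EtCoh.pull p').map (bcHom hc A) ≫ (EtCoh.pullPushAdj p').counit.app ((EtCoh.pull h').obj A))]
  simp only [← Ext.mk₀_comp_mk₀, ← Ext.comp_assoc_of_second_deg_zero]
  erw [c1, c2]
  rw [Ext.comp_assoc_of_second_deg_zero, Ext.comp_assoc_of_second_deg_zero, Ext.comp_assoc_of_second_deg_zero,
    Ext.mk₀_comp_mk₀, Ext.mk₀_comp_mk₀, Ext.mk₀_comp_mk₀, psi_eq hc A q rfl hc.w.symm]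

include hc in
theorem bijective_bc_mu [IsFinite p] (n : ℕ) :
    Function.Bijective fun y : EtCoh.H Y ((EtCoh.pull h).obj ((EtCoh.push p).obj A)) n =>
      mu (p := p') ((EtCoh.pull h').obj A) n (y.comp (Ext.mk₀ (bcHom hc A)) (add_zero n)) := by
  haveI : IsFinite p' := MorphismProperty.of_isPullback hc ‹IsFinite p›
  haveI : IsIso (bcHom hc A) := isIso_of_stalks_algClosed _ fun Ω _ _ _ ξ => isIso_bcHom_stalk hc A ξ
  exact (bijective_mu _ n).comp (bijective_mk₀_iso_postcomp (asIso (bcHom hc A)) n)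

include hc in
theorem surjective_Hpull_push [IsFinite p] (n : ℕ) (H : Function.Surjective (EtCore.Hpull h' A n)) :
    Function.Surjective (EtCore.Hpull h ((EtCoh.push p).obj A) n) := fun y => by
  obtain ⟨z, hz⟩ := H (mu (p := p') ((EtCoh.pull h').obj A) n (y.comp (Ext.mk₀ (bcHom hc A)) (add_zero n)))
  obtain ⟨x, rfl⟩ := (bijective_mu (p := p) A n).2 z
  rw [mu_natural hc] at hz
  exact ⟨x, (bijective_bc_mu hc A n).1 hz⟩

include hc in
theorem injective_Hpull_push [IsFinite p] (n : ℕ) (H : Function.Injective (EtCore.Hpull h' A n)) :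
    Function.Injective (EtCore.Hpull h ((EtCoh.push p).obj A) n) := fun x y e => by
  refine (bijective_mu (p := p) A n).1 (H ?_)
  rw [mu_natural hc, mu_natural hc, e]

end Square

end CovDevLib
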