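import Groth.Agent.CovDevLib.Basis
import Groth.Agent.EtShLib.TorsionOk
import Groth.Agent.ConsEmbedLib.Point
import Mathlib.AlgebraicGeometry.ZariskisMainTheorem

/-!
# Acyclicity and constant coefficients on locally quasi-finite schemes over the base
-/

set_option autoImplicit false
set_option linter.all false
set_option backward.isDefEq.respectTransparency false
set_option backward.isDefEq.respectTransparency.types false
set_option synthInstance.maxHeartbeats 400000
set_option maxHeartbeats 1000000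

universe u

open CategoryTheory CategoryTheory.Limits CategoryTheory.Abelian AlgebraicGeometry Opposite
open Groth.Agent Groth.Agent.EtShLib DescSecLib EtSliceLib EtAcycLib

noncomputable section

namespace CovDevLib

/-- Finite over an affine scheme étale over the base. -/
def FinEt {Y Y' : Scheme.{u}} (i : Y' ⟶ Y) (W : Y'.Etale) : Prop :=
  ∃ (U : Y.Etale) (_ : IsAffine U.left) (p : W.left ⟶ U.left), IsFinite p ∧ p ≫ U.hom = W.hom ≫ i

theorem exists_finEt {Y Y' : Scheme.{u}} (i : Y' ⟶ Y) [LocallyQuasiFinite i] [LocallyOfFiniteType i]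
    (W : Y'.Etale) (w : W.left) :
    ∃ (W' : Y'.Etale) (φ : W' ⟶ W), (∃ v : W'.left, φ.left v = w) ∧ FinEt i W' := by
  haveI : AlgebraicGeometry.Etale W.hom := W.prop
  haveI := locallyQuasiFinite_of_etale W.hom
  obtain ⟨A, hA, hwA, -⟩ := exists_isAffineOpen_mem_and_subset (X := W.left) (x := w) (U := ⊤) trivial
  haveI : IsAffine A.toScheme := hA
  let r : A.toScheme ⟶ Y := A.ι ≫ W.hom ≫ i
  haveI : IsSeparated (r ≫ terminal.from Y) := by
    rw [terminal.comp_from]
    infer_instance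
  haveI : IsSeparated r := IsSeparated.of_comp r (terminal.from Y)
  haveI : LocallyQuasiFinite r := inferInstance
  haveI : LocallyOfFiniteType r := inferInstance
  obtain ⟨U, gU, hgU, -, V, V', v, -, hfin, hv⟩ :=
    exists_etale_isCompl_of_quasiFiniteAt r (x := (⟨w, hwA⟩ : A.toScheme)) rfl (r.quasiFiniteAt _)
  haveI := hgU
  haveI := hfin
  let q := V.ι ≫ pullback.snd r gU
  obtain ⟨U₀, hU₀, hvU₀, -⟩ := exists_isAffineOpen_mem_and_subset (X := U) (x := q.base v) (U := ⊤) trivial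
  let O := q ⁻¹ᵁ U₀
  let W' : Y'.Etale := Scheme.Etale.mk ((O.ι ≫ V.ι ≫ pullback.fst r gU ≫ A.ι) ≫ W.hom)
  refine ⟨W', MorphismProperty.Over.homMk (O.ι ≫ V.ι ≫ pullback.fst r gU ≫ A.ι) rfl, ⟨⟨v, hvU₀⟩, ?_⟩,
    Scheme.Etale.mk (U₀.ι ≫ gU), hU₀, q ∣_ U₀, inferInstanceAs (IsFinite (q ∣_ U₀)), ?_⟩
  · exact congrArg A.ι.base hv
  · show (q ∣_ U₀) ≫ U₀.ι ≫ gU = ((O.ι ≫ V.ι ≫ pullback.fst r gU ≫ A.ι) ≫ W.hom) ≫ i
    rw [morphismRestrict_ι_assoc]
    simp only [q, r, O, Category.assoc]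
    rw [← pullback.condition]

theorem isLTorsion_push_const {L : Set ℕ} {W U : Scheme.{u}} (p : W ⟶ U) {ℓ : ℕ} (hℓ : ℓ.Prime) (hL : ℓ ∈ L)
    (ν : ℕ) : EtAcyc.IsLTorsion L ((EtCoh.push p).obj (EtCoh.const W (ZMod (ℓ ^ ν)))) := by
  let C := AddCommGrpCat.of (ULift.{u + 1} (ZMod (ℓ ^ ν)))
  haveI : PreservesFiniteLimits (constantSheaf W.smallEtaleTopology AddCommGrpCat.{u + 1}) := by
    dsimp only [constantSheaf]
    infer_instance
  haveI : (constantSheaf W.smallEtaleTopology AddCommGrpCat.{u + 1}).Additive :=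
    Functor.additive_of_preserves_binary_products _
  haveI : (EtCoh.push p).Additive := { }
  have hC : (ℓ ^ ν) • 𝟙 C = 0 := by
    refine AddCommGrpCat.ext fun x => ?_
    show AddCommGrpCat.homAddEquiv ((ℓ ^ ν) • 𝟙 C) x = AddCommGrpCat.homAddEquiv (0 : C ⟶ C) x
    rw [map_nsmul, AddMonoidHom.nsmul_apply, map_zero, AddMonoidHom.zero_apply]
    refine ULift.ext _ _ ?_
    show (ℓ ^ ν) • x.down = 0
    rw [nsmul_eq_mul, ZMod.natCast_self, zero_mul]
  have hk : (ℓ ^ ν) • 𝟙 ((EtCoh.push p).obj (EtCoh.const W (ZMod (ℓ ^ ν)))) = 0 := by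
    rw [show 𝟙 ((EtCoh.push p).obj (EtCoh.const W (ZMod (ℓ ^ ν)))) =
        (EtCoh.push p).map ((constantSheaf W.smallEtaleTopology AddCommGrpCat.{u + 1}).map (𝟙 C)) from
      (((constantSheaf W.smallEtaleTopology AddCommGrpCat.{u + 1}) ⋙ EtCoh.push p).map_id C).symm,
      ← Functor.map_nsmul, ← Functor.map_nsmul, hC, Functor.map_zero, Functor.map_zero]
  intro T s x
  refine ⟨T, 𝟙 T, ℓ ^ ν, ⟨x, rfl⟩, ⟨pow_pos hℓ.pos ν, fun r hr hd => ?_⟩, ?_⟩
  · rwa [(Nat.prime_dvd_prime_iff_eq hr hℓ).1 (hr.dvd_of_dvd_pow hd)]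
  · exact (ConsEffaceLib.app_nsmul_id _ (ℓ ^ ν) T _).symm.trans
      (congrArg (fun t => t.hom.app (op T) (((EtCoh.push p).obj (EtCoh.const W (ZMod (ℓ ^ ν)))).obj.map (𝟙 T).op s)) hk)

theorem bijective_const_of_acyclicN {X Y Y' : Scheme.{u}} (g : X ⟶ Y) {L : Set ℕ} {n : ℕ}
    (hg : EtAcyc.IsAcyclicN g L n) (i : Y' ⟶ Y) [LocallyQuasiFinite i] [LocallyOfFiniteType i]
    {ℓ : ℕ} (hℓ : ℓ.Prime) (hL : ℓ ∈ L) (ν q : ℕ) (hq : q ≤ n) :
    Function.Bijective (EtCore.Hpull (pullback.snd g i) (EtCoh.const Y' (ZMod (ℓ ^ ν))) q) := by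
  refine bijective_Hpull_of_basis (pullback.snd g i) _ n (FinEt i) (exists_finEt i) ?_ q hq
  rintro W ⟨U, -, p, hp, hw⟩ m hm
  haveI := hp
  refine bijective_Hpull_of_iso_obj _ (EtCore.pullConst W.hom (ZMod (ℓ ^ ν))).symm m ?_
  have hA := (IsPullback.of_hasPullback W.hom (pullback.snd g i)).flip.paste_horiz
    (IsPullback.of_hasPullback g i)
  have hB := (IsPullback.of_hasPullback p (pullback.fst U.hom g)).flip.paste_horiz
    (IsPullback.of_hasPullback U.hom g).flip
  rw [hw] at hB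
  refine bijective_of_isPullback hA hB _ m ?_
  exact bijective_of_push (IsPullback.of_hasPullback p (pullback.fst U.hom g)) _ m
    ((hg U _ (isLTorsion_push_const p hℓ hL ν)).1 m hm)

theorem mono_unit_of_surjective {A B : Scheme.{u}} (f : A ⟶ B) (hf : Function.Surjective f.base) (G : EtCoh.Ab B) :
    Mono ((EtCoh.pullPushAdj f).unit.app G) := by
  refine (mono_iff_stalks (A := AddCommGrpCat.{u + 1}) _).2 fun Ω _ _ ξ => ?_
  obtain ⟨a, ha⟩ := hf (ξ.base default)
  obtain ⟨Ω', _, _, t, ht⟩ := exists_geometric_pt a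
  obtain ⟨e⟩ := nonempty_stk_iso_of_eq (A := AddCommGrpCat.{u + 1}) (ξ := t ≫ f) (ξ' := ξ)
    (ha.symm.trans (congrArg f.base ht.symm))
  haveI : Mono ((stk (A := AddCommGrpCat.{u + 1}) (t ≫ f)).map ((EtCoh.pullPushAdj f).unit.app G)) :=
    (AddCommGrpCat.mono_iff_injective _).2 (ConsEmbedLib.injective_stk_unit f t G)
  rw [show (stk (A := AddCommGrpCat.{u + 1}) ξ).map ((EtCoh.pullPushAdj f).unit.app G) =
      e.inv.app _ ≫ (stk (A := AddCommGrpCat.{u + 1}) (t ≫ f)).map ((EtCoh.pullPushAdj f).unit.app G) ≫ e.hom.app _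
    from (NatIso.naturality_1 e _).symm]
  infer_instance

theorem injective_Hpull_zero {A B : Scheme.{u}} (f : A ⟶ B) (hf : Function.Surjective f.base) (G : EtCoh.Ab B) :
    Function.Injective (EtCore.Hpull f G 0) := by
  refine (injective_iff_map_eq_zero _).2 fun x hx => ?_
  haveI := mono_unit_of_surjective f hf G
  haveI : (EtCoh.push f).Additive := { }
  obtain ⟨a, rfl⟩ := (Ext.mk₀_bijective _ _).2 x
  have h1 : Ext.mk₀ ((EtCore.pullConst f ℤ).inv ≫ (EtCoh.pull f).map a) = 0 := by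
    refine Eq.trans ?_ hx
    show _ = (Ext.mk₀ _).comp ((Ext.mk₀ a).mapExactFunctor (EtCoh.pull f)) (zero_add 0)
    rw [Ext.mapExactFunctor_mk₀, Ext.mk₀_comp_mk₀]
  rw [← Ext.mk₀_zero] at h1
  have h2 : (EtCoh.pull f).map a = 0 :=
    (cancel_epi (EtCore.pullConst f ℤ).inv).1 (((Ext.mk₀_bijective _ _).1 h1).trans comp_zero.symm)
  have h3 := (EtCoh.pullPushAdj f).unit.naturality a
  dsimp only [Functor.id_map, Functor.comp_map] at h3
  rw [h2, Functor.map_zero, comp_zero] at h3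
  rw [← Ext.mk₀_zero]
  exact congrArg Ext.mk₀ ((cancel_mono ((EtCoh.pullPushAdj f).unit.app G)).1 (h3.trans zero_comp.symm))

theorem moduli_primesIn (L : Set ℕ) : Moduli (EtAcyc.PrimesIn L) where
  one := ⟨Nat.one_pos, fun p hp h => absurd h hp.not_dvd_one⟩
  mul a b ha hb := ⟨Nat.mul_pos ha.1 hb.1, fun p hp h => (hp.dvd_mul.1 h).elim (ha.2 p hp) (hb.2 p hp)⟩
  pos a ha := ha.1
  split N hN := by
    induction N using induction_on_primes with
    | zero => exact absurd hN (lt_irrefl 0)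
    | one => exact ⟨1, 1, ⟨Nat.one_pos, fun p hp h => absurd h hp.not_dvd_one⟩, dvd_refl _,
        fun d _ => Nat.coprime_one_right d⟩
    | prime_mul p a hp ih =>
      obtain ⟨x, y, hx, hxy, hy⟩ := ih (Nat.pos_of_mul_pos_left hN)
      by_cases hpL : p ∈ L
      · refine ⟨p * x, y, ⟨Nat.mul_pos hp.pos hx.1, fun r hr h => ?_⟩, ?_, hy⟩
        · exact (hr.dvd_mul.1 h).elim (fun h => (Nat.prime_dvd_prime_iff_eq hr hp).1 h ▸ hpL) (hx.2 r hr)
        · rw [mul_assoc]
          exact Nat.mul_dvd_mul_left p hxy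
      · refine ⟨x, p * y, hx, ?_, fun d hd => ?_⟩
        · rw [mul_left_comm]
          exact Nat.mul_dvd_mul_left p hxy
        · exact Nat.Coprime.mul_right ((hp.coprime_iff_not_dvd.2 fun h => hpL (hd.2 p hp h)).symm) (hy d hd)
  prime_pow p e hp := by
    by_cases hpL : p ∈ L
    · exact .inl ⟨pow_pos hp.pos e, fun r hr h => (Nat.prime_dvd_prime_iff_eq hr hp).1 (hr.dvd_of_dvd_pow h) ▸ hpL⟩
    · exact .inr fun d hd => ((hp.coprime_iff_not_dvd.2 fun h => hpL (hd.2 p hp h)).symm).pow_right e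

theorem isAcyclicN_of_const {X Y : Scheme.{u}} (g : X ⟶ Y) [QuasiCompact g] [QuasiSeparated g]
    (hs : Function.Surjective g.base) (L : Set ℕ) (n : ℕ)
    (H : ∀ (Y' : Scheme.{u}) (i : Y' ⟶ Y), LocallyQuasiFinite i → LocallyOfFiniteType i → ∀ ℓ : ℕ, ℓ.Prime → ℓ ∈ L →
      ∀ ν : ℕ, 1 ≤ ν → ∀ q : ℕ, q ≤ n →
        Function.Surjective (EtCore.Hpull (pullback.snd g i) (EtCoh.const Y' (ZMod (ℓ ^ ν))) q)) :
    EtAcyc.IsAcyclicN g L n := by
  refine (EtAcycLib.isAcyclicN_iff g L n).2 fun V F hF => ?_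
  refine unit_vanish_of_basis (EtAcyc.prj g V) F n (fun W => IsAffine W.left) (fun W w => ?_) (fun W hW m hm => ?_)
  · obtain ⟨A, hA, hwA, -⟩ := exists_isAffineOpen_mem_and_subset (X := W.left) (x := w) (U := ⊤) trivial
    haveI : AlgebraicGeometry.Etale W.hom := W.prop
    exact ⟨Scheme.Etale.mk (A.ι ≫ W.hom), MorphismProperty.Over.homMk A.ι rfl, ⟨⟨w, hwA⟩, rfl⟩, hA⟩
  haveI : AlgebraicGeometry.Etale V.hom := V.prop
  haveI : AlgebraicGeometry.Etale W.hom := W.prop
  haveI := locallyQuasiFinite_of_etale V.hom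
  haveI := locallyQuasiFinite_of_etale W.hom
  haveI : IsAffine W.left := hW
  haveI : CompactSpace ↥((𝟭 Scheme.{u}).obj W.left) := inferInstanceAs (CompactSpace W.left)
  haveI : QuasiSeparatedSpace ↥((𝟭 Scheme.{u}).obj W.left) := inferInstanceAs (QuasiSeparatedSpace W.left)
  let g1 := EtAcyc.prj g V
  haveI : QuasiCompact g1 := MorphismProperty.pullback_fst (P := @QuasiCompact) _ _ ‹_›
  haveI : QuasiSeparated g1 := MorphismProperty.pullback_fst (P := @QuasiSeparated) _ _ ‹_›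
  let h := pullback.fst W.hom g1
  haveI : QuasiCompact h := MorphismProperty.pullback_fst (P := @QuasiCompact) _ _ ‹_›
  haveI : QuasiSeparated h := MorphismProperty.pullback_fst (P := @QuasiSeparated) _ _ ‹_›
  haveI : CompactSpace ↥(pullback W.hom g1) := QuasiCompact.compactSpace_of_compactSpace h
  haveI : QuasiSeparatedSpace ↥(pullback W.hom g1) := quasiSeparatedSpace_of_quasiSeparated h
  have hG := (isLTorsion_iff_torsionBy L _).1 (EtAcycLib.isLTorsion_pull W hF)
  refine (range_torsion (moduli_primesIn L) (n := n) (h := h) ?_ ((EtCoh.pull W.hom).obj F)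
    (fun Ω _ _ ξ x => (hG Ω ξ x).imp fun d hd => ⟨hd.1.1, hd.2⟩) fun d hd => ?_).1 m hm
  · intro X1 p hp r hr hpp
    haveI := hp
    have hA := (IsPullback.of_hasPullback p h).flip.paste_horiz
      ((IsPullback.of_hasPullback W.hom g1).flip.paste_horiz (IsPullback.of_hasPullback V.hom g).flip)
    haveI : LocallyQuasiFinite (p ≫ W.hom ≫ V.hom) := inferInstance
    haveI : LocallyOfFiniteType (p ≫ W.hom ≫ V.hom) := inferInstance
    refine ⟨injective_Hpull_zero _ ?_ _, fun j hj => ?_⟩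
    · exact (MorphismProperty.of_isPullback (P := @AlgebraicGeometry.Surjective) hA ⟨hs⟩).surj
    · obtain ⟨ℓ, e, hℓ, rfl⟩ := hpp
      rcases Nat.eq_zero_or_pos e with rfl | he
      · intro y
        have h0 : 𝟙 (EtCoh.const X1 (ZMod (ℓ ^ 0))) = 0 := by
          have hC : 𝟙 (AddCommGrpCat.of (ULift.{u + 1} (ZMod (ℓ ^ 0)))) = 0 := AddCommGrpCat.ext fun x =>
            haveI : Subsingleton (ZMod (ℓ ^ 0)) := inferInstanceAs (Subsingleton (ZMod 1))
            ULift.ext _ _ (Subsingleton.elim _ _)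
          haveI : PreservesFiniteLimits (constantSheaf X1.smallEtaleTopology AddCommGrpCat.{u + 1}) := by
            dsimp only [constantSheaf]
            infer_instance
          haveI : (constantSheaf X1.smallEtaleTopology AddCommGrpCat.{u + 1}).Additive :=
            Functor.additive_of_preserves_binary_products _
          rw [← CategoryTheory.Functor.map_id, hC, Functor.map_zero]
        refine ⟨0, ?_⟩
        haveI : (EtCoh.pull (pullback.fst p h)).IsLeftAdjoint := (EtCoh.pullPushAdj _).isLeftAdjoint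
        haveI : (EtCoh.pull (pullback.fst p h)).Additive := { }
        rw [map_zero, ← Ext.comp_mk₀_id y, ← CategoryTheory.Functor.map_id, h0, Functor.map_zero, Ext.mk₀_zero, Ext.comp_zero]
      · have hℓL : ℓ ∈ L := hr.2 ℓ hℓ (dvd_pow_self ℓ he.ne')
        exact surjective_of_isPullback hA (IsPullback.of_hasPullback g (p ≫ W.hom ≫ V.hom)) _ j
          (H X1 (p ≫ W.hom ≫ V.hom) inferInstance inferInstance ℓ hℓ hℓL e he j hj)
  · refine (mono_iff_stalks (A := AddCommGrpCat.{u + 1}) _).2 fun Ω _ _ ξ => (AddCommGrpCat.mono_iff_injective _).2 ?_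
    rw [injective_iff_map_eq_zero]
    intro x hx
    obtain ⟨e, he, hex⟩ := hG Ω ξ x
    refine eq_zero_of_coprime hex ?_ (hd e he)
    obtain ⟨T, t, s, rfl⟩ := exists_germ (A := AddCommGrpCat.{u + 1}) ξ x
    rw [germ_natural_apply] at hx
    rw [← map_nsmul]
    exact (congrArg _ (ConsEffaceLib.app_nsmul_id _ d T s).symm).trans hx

end CovDevLib
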