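import Groth.Agent.CovDevLib.Devissage
import Groth.Agent.EtAcycLib.Crit
import Groth.Agent.S0642

/-!
# Acyclicity from a basis of the etale site
-/

set_option autoImplicit false
set_option linter.all false
set_option backward.isDefEq.respectTransparency false
set_option backward.isDefEq.respectTransparency.types false
set_option synthInstance.maxHeartbeats 400000
set_option maxHeartbeats 2000000

universe u

open CategoryTheory CategoryTheory.Limits CategoryTheory.Abelian AlgebraicGeometry Opposite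
open Groth.Agent Groth.Agent.EtShLib DescSecLib EtSliceLib EtAcycLib
open Groth.Agent.S14451

noncomputable section

namespace CovDevLib

section Transport

theorem bijective_Hpull_iso {A B : Scheme.{u}} (e : A ⟶ B) [IsIso e] (G : EtCoh.Ab B) (q : ℕ) :
    Function.Bijective (EtCore.Hpull e G q) :=
  Groth.Agent.S0642.result e G q

theorem Hpull_iso_comp {P P' W : Scheme.{u}} (e : P ⟶ P') [IsIso e] (b' : P' ⟶ W) (b : P ⟶ W) (w : e ≫ b' = b)
    (G : EtCoh.Ab W) (q : ℕ) :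
    ∃ φ : EtCoh.H P' ((EtCoh.pull b').obj G) q → EtCoh.H P ((EtCoh.pull b).obj G) q,
      Function.Bijective φ ∧ (EtCore.Hpull b G q : _ → _) = φ ∘ EtCore.Hpull b' G q :=
  ⟨_, (bijective_mk₀_iso_postcomp (asIso ((etSys.c e b' b w).app G)) q).comp (bijective_Hpull_iso e _ q),
    funext fun x => (Hpull_comp e b' b w G q x).symm⟩

/-- Two cartesian squares on the same morphisms give the same pullback maps. -/
theorem surjective_of_isPullback {X Y W P P' : Scheme.{u}} {g : X ⟶ Y} {r : W ⟶ Y} {a : P ⟶ X} {b : P ⟶ W}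
    {a' : P' ⟶ X} {b' : P' ⟶ W} (h : IsPullback a b g r) (h' : IsPullback a' b' g r)
    (G : EtCoh.Ab W) (q : ℕ) (H : Function.Surjective (EtCore.Hpull b' G q)) :
    Function.Surjective (EtCore.Hpull b G q) := by
  obtain ⟨φ, hφ, e⟩ := Hpull_iso_comp (h.isoIsPullback _ _ h').hom b' b (h.isoIsPullback_hom_snd _ _ h') G q
  rw [e]
  exact hφ.2.comp H

theorem bijective_of_isPullback {X Y W P P' : Scheme.{u}} {g : X ⟶ Y} {r : W ⟶ Y} {a : P ⟶ X} {b : P ⟶ W}
    {a' : P' ⟶ X} {b' : P' ⟶ W} (h : IsPullback a b g r) (h' : IsPullback a' b' g r)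
    (G : EtCoh.Ab W) (q : ℕ) (H : Function.Bijective (EtCore.Hpull b' G q)) :
    Function.Bijective (EtCore.Hpull b G q) := by
  obtain ⟨φ, hφ, e⟩ := Hpull_iso_comp (h.isoIsPullback _ _ h').hom b' b (h.isoIsPullback_hom_snd _ _ h') G q
  rw [e]
  exact hφ.comp H

theorem bijective_Hpull_of_iso_obj {A B : Scheme.{u}} (f : A ⟶ B) {G G' : EtCoh.Ab B} (e : G ≅ G') (q : ℕ)
    (H : Function.Bijective (EtCore.Hpull f G q)) : Function.Bijective (EtCore.Hpull f G' q) := by
  have h1 : (EtCore.Hpull f G' q : _ → _) ∘ (fun x => Ext.comp x (Ext.mk₀ e.hom) (add_zero q)) =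
      (fun y => Ext.comp y (Ext.mk₀ ((EtCoh.pull f).mapIso e).hom) (add_zero q)) ∘ EtCore.Hpull f G q :=
    funext fun x => Hpull_postcomp f e.hom q x
  refine (Function.Bijective.of_comp_iff _ (bijective_mk₀_iso_postcomp e q)).1 ?_
  rw [h1]
  exact (bijective_mk₀_iso_postcomp _ q).comp H

variable {X Y X' Y' : Scheme.{u}} {h : Y ⟶ X} {p : X' ⟶ X} {p' : Y' ⟶ Y} {h' : Y' ⟶ X'}
  (hc : IsPullback h' p' p h) (A : EtCoh.Ab X')

include hc in
theorem bijective_of_push [IsFinite p] (q : ℕ) (H : Function.Bijective (EtCore.Hpull h ((EtCoh.push p).obj A) q)) :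
    Function.Bijective (EtCore.Hpull h' A q) := by
  refine (Function.Bijective.of_comp_iff _ (bijective_mu (p := p) A q)).1 ?_
  have e : (EtCore.Hpull h' A q : _ → _) ∘ mu (p := p) A q =
      (fun y => mu (p := p') ((EtCoh.pull h').obj A) q (Ext.comp y (Ext.mk₀ (bcHom hc A)) (add_zero q))) ∘
        EtCore.Hpull h ((EtCoh.push p).obj A) q := funext fun x => mu_natural hc A q x
  rw [e]
  exact (bijective_bc_mu hc A q).comp H

end Transport

variable {X Y : Scheme.{u}} (g : X ⟶ Y)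

theorem bijective_unit_app_at {F : EtCoh.Ab Y} (W : Y.Etale) (H : Function.Bijective (etSys.Hmap F 0 (prOv g W))) :
    Function.Bijective (((EtCoh.pullPushAdj g).unit.app F).hom.app (op W)) := by
  haveI := isIso_theta F (upTo g (ov (bX g W)))
  let G := (EtCoh.pull g).obj F
  let u := ((EtCoh.pullPushAdj g).unit.app F).hom.app (op W)
  let Ψ : ToType (G.obj.obj (op (bX g W))) → _ := fun t =>
    Ext.comp (psi (bX g W) G 0 (Ext.mk₀ (desc (bX g W) t))) (Ext.mk₀ (etSys.θ F (upTo g (ov (bX g W))))) (add_zero 0)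
  have hΨ : Function.Injective Ψ := by
    intro t t' h
    have h1 := (Ext.mk₀_bijective _ _).1 ((psi_bijective (bX g W) 0 G).1
      ((bijective_mk₀_iso_postcomp (asIso (etSys.θ F (upTo g (ov (bX g W))))) 0).1 h))
    have h2 := congrArg (fun d : free (bX g W) ⟶ G => d.hom.app (op (bX g W)) (gen (bX g W))) h1
    simpa [desc_gen] using h2
  have hΦ : ∀ a : free W ⟶ F,
      etSys.Hmap F 0 (prOv g W) (psi W F 0 (Ext.mk₀ a)) = Ψ (u (a.hom.app (op W) (gen W))) := fun a =>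
    Hmap_prOv_mk₀ g F W a
  refine ⟨fun s s' h => ?_, fun t => ?_⟩
  · have h1 := hΦ (desc W s)
    have h2 := hΦ (desc W s')
    rw [desc_gen] at h1 h2
    have h3 := (Ext.mk₀_bijective _ _).1 ((psi_bijective W 0 F).1
      (H.1 (h1.trans ((congrArg Ψ h).trans h2.symm))))
    have h4 := congrArg (fun d : free W ⟶ F => d.hom.app (op W) (gen W)) h3
    simpa [desc_gen] using h4
  · obtain ⟨e, he⟩ := H.2 (Ψ t)
    obtain ⟨y, rfl⟩ := (psi_bijective W 0 F).2 e
    obtain ⟨a, rfl⟩ := (Ext.mk₀_bijective _ _).2 y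
    exact ⟨a.hom.app (op W) (gen W), hΨ ((hΦ a).symm.trans he)⟩

theorem bijective_Hmap_prOv {F : EtCoh.Ab Y} (W : Y.Etale) (q : ℕ)
    (H : Function.Bijective (EtCore.Hpull (pullback.fst W.hom g) ((EtCoh.pull W.hom).obj F) q)) :
    Function.Bijective (etSys.Hmap F q (prOv g W)) := by
  haveI := isIso_theta F (prOv g W)
  have e : (etSys.Hmap F q (prOv g W) : _ → _) =
      (fun y => Ext.comp y (Ext.mk₀ (asIso (etSys.θ F (prOv g W))).hom) (add_zero q)) ∘
        EtCore.Hpull (pullback.fst W.hom g) ((EtCoh.pull W.hom).obj F) q :=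
    funext fun x => hmap_eq_Hpull F q (prOv g W) x
  rw [e]
  exact (bijective_mk₀_iso_postcomp _ q).comp H

section Basis

variable (F : EtCoh.Ab Y) (n : ℕ) (B : Y.Etale → Prop)
  (hB : ∀ (W : Y.Etale) (w : W.left), ∃ (W' : Y.Etale) (φ : W' ⟶ W), (∃ v : W'.left, φ.left v = w) ∧ B W')
  (H : ∀ W, B W → ∀ q, q ≤ n → Function.Bijective (EtCore.Hpull (pullback.fst W.hom g) ((EtCoh.pull W.hom).obj F) q))

include hB H in
theorem isIso_unit_of_basis : IsIso ((EtCoh.pullPushAdj g).unit.app F) := by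
  let η : F ⟶ (EtCoh.push g).obj ((EtCoh.pull g).obj F) := (EtCoh.pullPushAdj g).unit.app F
  have hb : ∀ W, B W → Function.Bijective (η.hom.app (op W)) := fun W hW =>
    bijective_unit_app_at g W (bijective_Hmap_prOv g W 0 (H W hW 0 (Nat.zero_le n)))
  refine isIso_of_stalks (A := AddCommGrpCat.{u + 1}) η fun Ω _ _ ξ => ?_
  have small : ∀ (W : Y.Etale) (w : Fib ξ W), ∃ (W' : Y.Etale) (φ : W' ⟶ W) (v : Fib ξ W'), v.map φ = w ∧ B W' := by
    intro W w
    obtain ⟨W', φ, ⟨x, hx⟩, hW'⟩ := hB W w.pt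
    haveI := etale_left φ
    obtain ⟨l, hl, -⟩ := Scheme.exists_fac_of_etale_of_isSepClosed φ.left w.hom x hx
    refine ⟨W', φ, Fib.mk l ?_, Fib.ext hl, hW'⟩
    rw [← (show φ.left ≫ W.hom = W'.hom from MorphismProperty.Over.w φ), ← Category.assoc, hl]
    exact w.w
  refine (ConcreteCategory.isIso_iff_bijective _).2 ⟨?_, fun p => ?_⟩
  · rw [injective_iff_map_eq_zero]
    intro p hp
    obtain ⟨W, w, s, rfl⟩ := exists_germ (A := AddCommGrpCat.{u + 1}) ξ p
    rw [germ_natural_apply] at hp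
    obtain ⟨V, k, v, hv, he⟩ := (germ_eq_iff ξ W w _ 0).1 (hp.trans (map_zero _).symm)
    obtain ⟨V', φ, v', hv', hV'⟩ := small V v
    have h0 : F.obj.map (φ ≫ k).op s = 0 := by
      refine (hb V' hV').1 ?_
      rw [NatTrans.naturality_apply, map_zero, op_comp, Functor.map_comp, ConcreteCategory.comp_apply]
      refine (congrArg (((EtCoh.push g).obj ((EtCoh.pull g).obj F)).obj.map φ.op) he).trans ?_
      rw [map_zero, map_zero]
    have hw : Fib.map (φ ≫ k) v' = w := by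
      rw [← hv, ← hv']
      exact Fib.ext (by rw [Fib.map_hom, Fib.map_hom, Fib.map_hom, Category.assoc]; rfl)
    rw [← hw, ← germ_res_apply, h0, map_zero]
  · obtain ⟨W, w, s, rfl⟩ := exists_germ (A := AddCommGrpCat.{u + 1}) ξ p
    obtain ⟨W', φ, v, hv, hW'⟩ := small W w
    obtain ⟨t, ht⟩ := (hb W' hW').2 (((EtCoh.push g).obj ((EtCoh.pull g).obj F)).obj.map φ.op s)
    refine ⟨germ ξ F W' v t, ?_⟩
    rw [germ_natural_apply, ht, germ_res_apply, hv]

set_option maxHeartbeats 4000000 in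
include hB H in
theorem killed_of_basis {m : ℕ} (hm : m + 1 ≤ n) : Killed g ((EtCoh.pull g).obj F) m := by
  intro W₀ y₀ w₀
  obtain ⟨W, φ₀, ⟨w, hw⟩, hW⟩ := hB W₀ w₀
  let y := (Ext.mk₀ (freeMap ((EtCoh.bc g).map φ₀))).comp y₀ (zero_add (m + 1))
  suffices h : ∃ (W' : Y.Etale) (φ : W' ⟶ W), (∃ v : W'.left, φ.left v = w) ∧
      (Ext.mk₀ (freeMap ((EtCoh.bc g).map φ))).comp y (zero_add (m + 1)) = 0 by
    obtain ⟨W', φ, ⟨v, hv⟩, h0⟩ := h
    refine ⟨W', φ ≫ φ₀, ⟨v, (congrArg φ₀.left.base hv).trans hw⟩, ?_⟩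
    have e : freeMap ((EtCoh.bc g).map φ) ≫ freeMap ((EtCoh.bc g).map φ₀) =
        freeMap ((EtCoh.bc g).map (φ ≫ φ₀)) := free_hom_ext _ (by
      rw [freeMap_app, freeMap_gen, freeMap_gen, Functor.map_comp, op_comp, Functor.map_comp,
        ConcreteCategory.comp_apply])
    rw [← e, ← Ext.mk₀_comp_mk₀, Ext.comp_assoc_of_second_deg_zero]
    exact h0
  let G := (EtCoh.pull g).obj F
  obtain ⟨e, he⟩ := (bijective_Hmap_prOv g W (m + 1) (H W hW (m + 1) hm)).2
    (Ext.comp (psi (bX g W) G (m + 1) y) (Ext.mk₀ (etSys.θ F (upTo g (ov (bX g W))))) (add_zero (m + 1)))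
  obtain ⟨ε, rfl⟩ := (psi_bijective W (m + 1) F).2 e
  obtain ⟨W', φ, hx, hε⟩ := exists_kill m F W ε w
  refine ⟨W', φ, hx, ?_⟩
  haveI := isIso_theta F (upTo g (ov (bX g W')))
  let φ' : bX g W' ⟶ bX g W := (EtCoh.bc g).map φ
  let ι := etSys.θ F (upTo g (ov (bX g W')))
  have h1 : psi (bX g W') G (m + 1) ((Ext.mk₀ (freeMap φ')).comp y (zero_add (m + 1))) =
      etSys.Hmap G (m + 1) (ovMap φ') (psi (bX g W) G (m + 1) y) := (Hmap_psi G φ' y).symm
  have h2 : etSys.Hmap F (m + 1) (upMap g (ovMap φ')) (etSys.Hmap F (m + 1) (prOv g W) (psi W F (m + 1) ε)) =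
      Ext.comp (etSys.Hmap G (m + 1) (ovMap φ') (psi (bX g W) G (m + 1) y)) (Ext.mk₀ ι) (add_zero (m + 1)) :=
    (congrArg (etSys.Hmap F (m + 1) (upMap g (ovMap φ'))) he).trans
      (Hmap_up g F (ovMap φ') (m + 1) (psi (bX g W) G (m + 1) y))
  have h3 : etSys.Hmap F (m + 1) (ovMap φ) (psi W F (m + 1) ε) = 0 := by
    refine (Hmap_psi F φ ε).trans ?_
    rw [hε, map_zero]
  have h4 : etSys.Hmap F (m + 1) (upMap g (ovMap φ')) (etSys.Hmap F (m + 1) (prOv g W) (psi W F (m + 1) ε)) = 0 := by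
    refine (etSys.Hmap_comp F (m + 1) (upMap g (ovMap φ')) (prOv g W) (psi W F (m + 1) ε)).symm.trans ?_
    refine (congrArg (fun t => etSys.Hmap F (m + 1) t (psi W F (m + 1) ε)) (prOv_comm g φ)).trans ?_
    refine (etSys.Hmap_comp F (m + 1) (prOv g W') (ovMap φ) (psi W F (m + 1) ε)).trans ?_
    exact (congrArg (etSys.Hmap F (m + 1) (prOv g W')) h3).trans (map_zero _)
  apply (psi_bijective (bX g W') (m + 1) G).1
  refine h1.trans (Eq.trans ?_ (map_zero _).symm)
  apply (bijective_mk₀_iso_postcomp (asIso ι) (m + 1)).1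
  exact (h2.symm.trans h4).trans (Ext.zero_comp _ _ (Ext.mk₀ ι) _ (add_zero (m + 1))).symm


include hB H in
theorem unit_vanish_of_basis : IsIso ((EtCoh.pullPushAdj g).unit.app F) ∧
    ∀ q : ℕ, 1 ≤ q → q ≤ n → IsZero ((EtCoh.Rpush g q).obj ((EtCoh.pull g).obj F)) := by
  refine ⟨isIso_unit_of_basis g F n B hB H, fun q h1 hq => ?_⟩
  obtain ⟨m, rfl⟩ : ∃ m, q = m + 1 := ⟨q - 1, by omega⟩
  exact isZero_Rpush_of_killed g m _ (killed_of_basis g F n B hB H hq)

include hB H in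
theorem bijective_Hpull_of_basis (q : ℕ) (hq : q ≤ n) : Function.Bijective (EtCore.Hpull g F q) := by
  haveI : PreservesLimitsOfSize.{0, 0} (EtCoh.push g) := (EtCoh.pullPushAdj g).rightAdjoint_preservesLimits
  haveI : PreservesFiniteLimits (EtCoh.push g) := PreservesLimitsOfSize.preservesFiniteLimits _
  haveI : PreservesFiniteColimits (EtCoh.pull g) :=
    haveI : PreservesColimitsOfSize.{0, 0} (EtCoh.pull g) := (EtCoh.pullPushAdj g).leftAdjoint_preservesColimits
    PreservesColimitsOfSize.preservesFiniteColimits _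
  haveI : (EtCoh.push g).Additive := { }
  obtain ⟨hu, hR⟩ := unit_vanish_of_basis g F n B hB H
  haveI := hu
  obtain ⟨hb, -⟩ := extAdj'_range (EtCoh.pullPushAdj g) (EtCoh.const Y ℤ) n ((EtCoh.pull g).obj F)
    fun q hq => hR (q + 1) (by omega) hq
  have e : (EtCore.Hpull g F q : _ → _) =
      (fun x => (Ext.mk₀ (EtCore.pullConst g ℤ).symm.hom).comp x (zero_add q)) ∘
        extAdj' (EtCoh.pullPushAdj g) (EtCoh.const Y ℤ) ((EtCoh.pull g).obj F) q ∘
          fun x : EtCoh.H Y F q => Ext.comp x (Ext.mk₀ (asIso ((EtCoh.pullPushAdj g).unit.app F)).hom) (add_zero q) := by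
    funext x
    exact congrArg (fun t => (Ext.mk₀ (EtCore.pullConst g ℤ).symm.hom).comp t (zero_add q))
      (mapExact_eq_extAdj' (EtCoh.pullPushAdj g) x)
  rw [e]
  exact (bijective_mk₀_iso_precomp _ q).comp ((hb q hq).comp (bijective_mk₀_iso_postcomp _ q))

end Basis

end CovDevLib
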